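import Mathlib
import Cfsg.Agent.S2381
import Cfsg.Agent.Lib.Semisimple.SympModel
import Cfsg.Agent.Lib.ElementOrders.Basic
import Cfsg.Agent.Lib.ElementOrders.Singer

/-!
Elements of prescribed order in `Sp_{2n}(q)`, and passage to `PSp_{2n}(q)`.
-/

set_option autoImplicit false

namespace Cfsg.Agent.Lib.SympPrimeGraph

open Polynomial
open scoped Matrix

variable {F : Type*} [Field F]

/-- Direct sums of two symplectic groups. -/
theorem exists_pair_hom {a b n : ℕ} (h : a + b ≤ n) :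
    ∃ Φ : ↥(Matrix.symplecticGroup (Fin a) F) × ↥(Matrix.symplecticGroup (Fin b) F) →*
      ↥(Matrix.symplecticGroup (Fin n) F), Function.Injective Φ ∧ ∀ g,
        (Φ g : Matrix (Fin n ⊕ Fin n) (Fin n ⊕ Fin n) F) = -1 →
          (g.2 : Matrix (Fin b ⊕ Fin b) (Fin b ⊕ Fin b) F) = -1 := by
  classical
  let f : (Fin a ⊕ Fin b) ⊕ Fin (n - (a + b)) ≃ Fin n := Fintype.equivOfCardEq (by simp; omega)
  let ε : ((Fin a ⊕ Fin a) ⊕ (Fin b ⊕ Fin b)) ⊕ (Fin (n - (a + b)) ⊕ Fin (n - (a + b))) ≃ Fin n ⊕ Fin n :=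
    ((Equiv.sumSumSumComm _ _ _ _).sumCongr (Equiv.refl _)).trans
      ((Equiv.sumSumSumComm _ _ _ _).trans (f.sumCongr f))
  let D : Matrix (Fin a ⊕ Fin a) (Fin a ⊕ Fin a) F × Matrix (Fin b ⊕ Fin b) (Fin b ⊕ Fin b) F →*
      Matrix (((Fin a ⊕ Fin a) ⊕ (Fin b ⊕ Fin b)) ⊕ (Fin (n - (a + b)) ⊕ Fin (n - (a + b))))
        (((Fin a ⊕ Fin a) ⊕ (Fin b ⊕ Fin b)) ⊕ (Fin (n - (a + b)) ⊕ Fin (n - (a + b)))) F :=
    { toFun := fun M => Matrix.fromBlocks (Matrix.fromBlocks M.1 0 0 M.2) 0 0 1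
      map_one' := by simp [Matrix.fromBlocks_one]
      map_mul' := fun M N => by simp [Matrix.fromBlocks_multiply] }
  let φ := ((Matrix.reindexAlgEquiv F F ε).toMonoidHom.comp D).comp
    (MonoidHom.prodMap (Matrix.symplecticGroup (Fin a) F).subtype (Matrix.symplecticGroup (Fin b) F).subtype)
  have hJ : Matrix.reindex ε ε (Matrix.fromBlocks (Matrix.fromBlocks (Matrix.J (Fin a) F) 0 0 (Matrix.J (Fin b) F)) 0 0
      (Matrix.J (Fin (n - (a + b))) F)) = Matrix.J (Fin n) F := by
    rw [← (Matrix.reindex ε ε).eq_symm_apply]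
    ext x y
    rcases x with ((x | x) | (x | x)) | (x | x) <;> rcases y with ((y | y) | (y | y)) | (y | y) <;>
      simp [ε, Matrix.J, Matrix.one_apply]
  have hmem : ∀ g, φ g ∈ Matrix.symplecticGroup (Fin n) F := fun g => by
    rw [SymplecticGroup.mem_iff', ← hJ,
      show φ g = Matrix.reindex ε ε (Matrix.fromBlocks (Matrix.fromBlocks (g.1 : Matrix (Fin a ⊕ Fin a) (Fin a ⊕ Fin a) F)
        0 0 (g.2 : Matrix (Fin b ⊕ Fin b) (Fin b ⊕ Fin b) F)) 0 0 1) from rfl]
    simp only [Matrix.reindex_apply, Matrix.transpose_submatrix, Matrix.submatrix_mul_equiv]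
    congr 1
    simp [Matrix.fromBlocks_transpose, Matrix.fromBlocks_multiply, SymplecticGroup.mem_iff'.1 g.1.2,
      SymplecticGroup.mem_iff'.1 g.2.2]
  refine ⟨φ.codRestrict (Matrix.symplecticGroup (Fin n) F) hmem, fun g h hgh => ?_, fun g hg => ?_⟩
  swap
  · have h1 := (Matrix.reindexAlgEquiv F F ε).injective
      (hg.trans (show (-1 : Matrix (Fin n ⊕ Fin n) (Fin n ⊕ Fin n) F) = Matrix.reindexAlgEquiv F F ε (-1) by
        rw [map_neg, map_one]))
    ext i j
    have h2 := congrFun (congrFun h1 (Sum.inl (Sum.inr i))) (Sum.inl (Sum.inr j))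
    refine h2.trans ?_
    simp [Matrix.one_apply]
  have h1 := (Matrix.fromBlocks_inj.1 ((Matrix.reindexAlgEquiv F F ε).injective (congrArg Subtype.val hgh))).1
  exact Prod.ext (Subtype.ext (Matrix.fromBlocks_inj.1 h1).1) (Subtype.ext (Matrix.fromBlocks_inj.1 h1).2.2.2)

theorem exists_orderOf_sum {a b n : ℕ} (h : a + b ≤ n) (g : ↥(Matrix.symplecticGroup (Fin a) F))
    (k : ↥(Matrix.symplecticGroup (Fin b) F)) :
    ∃ x : ↥(Matrix.symplecticGroup (Fin n) F), orderOf x = Nat.lcm (orderOf g) (orderOf k) := by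
  obtain ⟨Φ, hΦ, -⟩ := exists_pair_hom (F := F) h
  exact ⟨Φ (g, k), by rw [orderOf_injective Φ hΦ, Prod.orderOf]⟩

theorem exists_orderOf_mono {a n : ℕ} (h : a ≤ n) (g : ↥(Matrix.symplecticGroup (Fin a) F)) :
    ∃ x : ↥(Matrix.symplecticGroup (Fin n) F), orderOf x = orderOf g := by
  obtain ⟨x, hx⟩ := exists_orderOf_sum (b := 0) (n := n) (by omega) g 1
  exact ⟨x, by rw [hx, orderOf_one, Nat.lcm_one_right]⟩

/-- A transvection. -/
theorem exists_orderOf_char (p : ℕ) [Fact p.Prime] [CharP F p] :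
    ∃ t : ↥(Matrix.symplecticGroup (Fin 1) F), orderOf t = p := by
  let T : Matrix (Fin 1 ⊕ Fin 1) (Fin 1 ⊕ Fin 1) F := Matrix.fromBlocks 1 1 0 1
  have hT : T ∈ Matrix.symplecticGroup (Fin 1) F := by
    rw [SymplecticGroup.mem_iff']
    simp [T, Matrix.J, Matrix.fromBlocks_transpose, Matrix.fromBlocks_multiply]
  refine ⟨⟨T, hT⟩, ?_⟩
  have hpow : ∀ k : ℕ, T ^ k = Matrix.fromBlocks 1 (k : Matrix (Fin 1) (Fin 1) F) 0 1 := fun k => by
    induction k with
    | zero => simp [Matrix.fromBlocks_one]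
    | succ k ih => rw [pow_succ, ih]; simp [T, Matrix.fromBlocks_multiply, Nat.cast_succ, add_comm]
  refine orderOf_eq_prime (Subtype.ext ?_) (fun h => ?_)
  · rw [SubmonoidClass.coe_pow, hpow]
    rw [CharP.cast_eq_zero (Matrix (Fin 1) (Fin 1) F) p]
    exact Matrix.fromBlocks_one
  · have h1 : T (Sum.inl 0) (Sum.inr 0) = (1 : Matrix (Fin 1 ⊕ Fin 1) (Fin 1 ⊕ Fin 1) F) (Sum.inl 0) (Sum.inr 0) :=
      congrFun (congrFun (congrArg Subtype.val h) _) _
    simp [T] at h1

theorem aeval_pow_card [Fintype F] {A : Type*} [CommRing A] [Algebra F A] (f : F[X]) (x : A) :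
    aeval (x ^ Fintype.card F) f = aeval x f ^ Fintype.card F := by
  rw [← expand_aeval, FiniteField.expand_card, map_pow]

theorem aeval_pow_card_pow [Fintype F] {A : Type*} [CommRing A] [Algebra F A] (f : F[X]) (x : A) :
    ∀ m : ℕ, aeval (x ^ Fintype.card F ^ m) f = aeval x f ^ Fintype.card F ^ m
  | 0 => by simp
  | m + 1 => by rw [pow_succ, pow_mul, aeval_pow_card, aeval_pow_card_pow f x m, ← pow_mul]

variable [Fintype F] {q : ℕ}

/-- A cyclic subgroup of order `q^m + 1` in `Sp_{2m}(q)`. -/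
theorem exists_orderOf_pow_add_one (hF : Fintype.card F = q) {m : ℕ} (hm : 1 ≤ m) :
    ∃ g : ↥(Matrix.symplecticGroup (Fin m) F), orderOf g = q ^ m + 1 := by
  classical
  obtain ⟨p, hp⟩ := CharP.exists F
  haveI : Fact p.Prime := ⟨CharP.char_is_prime F p⟩
  haveI : NeZero (2 * m) := ⟨by omega⟩
  let K := FiniteField.Extension F p (2 * m)
  have hq : 2 ≤ q := hF ▸ Fintype.one_lt_card
  have hKu : Nat.card Kˣ = q ^ (2 * m) - 1 := by
    rw [Nat.card_units, FiniteField.natCard_extension, Nat.card_eq_fintype_card, hF]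
  obtain ⟨g0, hg0⟩ := IsCyclic.exists_ofOrder_eq_natCard (α := Kˣ)
  have hdvd : q ^ m + 1 ∣ q ^ (2 * m) - 1 := ⟨q ^ m - 1, by
    rw [mul_comm 2 m, pow_mul, ← Nat.sq_sub_sq, one_pow]⟩
  obtain ⟨u, hu⟩ := ElementOrders.exists_orderOf_eq_of_dvd (x := g0) (c := q ^ m + 1) (by rw [hg0, hKu]; exact hdvd)
  set ζ : K := (u : K) with hζdef
  have hζo : orderOf ζ = q ^ m + 1 := by rw [hζdef, orderOf_units, hu]
  have hint : IsIntegral F ζ := IsIntegral.of_finite F ζ
  set f := minpoly F ζ with hfdef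
  have hfm : f.Monic := minpoly.monic hint
  have hfi : Irreducible f := minpoly.irreducible hint
  have hf0 : f.coeff 0 ≠ 0 := minpoly.coeff_zero_ne_zero hint (Units.ne_zero u)
  -- the degree
  have hdeg : f.natDegree = 2 * m := by
    have hle : f.natDegree ≤ 2 * m := by
      have := minpoly.natDegree_le (A := F) ζ
      rwa [FiniteField.finrank_extension] at this
    have hpos : 0 < f.natDegree := hfi.natDegree_pos
    have hfix : q ^ m + 1 ∣ q ^ f.natDegree - 1 := by
      rw [← hζo]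
      refine orderOf_dvd_of_pow_eq_one ?_
      let E := IntermediateField.adjoin F ({ζ} : Set K)
      haveI : Module.Finite F E := IntermediateField.adjoin.finiteDimensional hint
      haveI : Finite E := Module.finite_of_finite F
      letI : Fintype E := Fintype.ofFinite E
      have hcard : Fintype.card E = q ^ f.natDegree := by
        rw [Module.card_eq_pow_finrank (K := F), IntermediateField.adjoin.finrank hint, hF]
      have h1 : (⟨ζ, IntermediateField.mem_adjoin_simple_self F ζ⟩ : E) ^ (Fintype.card E - 1) = 1 :=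
        FiniteField.pow_card_sub_one_eq_one _ (fun h => Units.ne_zero u (congrArg Subtype.val h))
      rw [hcard] at h1
      exact congrArg Subtype.val h1
    by_contra hne
    rcases le_or_gt f.natDegree m with h | h
    · have h1 := Nat.le_of_dvd (by have := hq.trans (Nat.le_self_pow hpos.ne' q); omega) hfix
      have := Nat.pow_le_pow_right (show 0 < q by omega) h
      omega
    · obtain ⟨j, hj⟩ := Nat.exists_eq_add_of_le h.le
      have h1 : q ^ m + 1 ∣ q ^ j + 1 := by
        have h2 : q ^ m + 1 ∣ q ^ j * (q ^ m + 1) := dvd_mul_left _ _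
        have h3 : q ^ j * (q ^ m + 1) - (q ^ f.natDegree - 1) = q ^ j + 1 := by
          rw [hj, pow_add]
          have h4 : 1 ≤ q ^ m * q ^ j := Nat.one_le_iff_ne_zero.2 (by positivity)
          rw [mul_add, mul_one, mul_comm (q ^ j) (q ^ m)]
          omega
        exact h3 ▸ Nat.dvd_sub h2 hfix
      have := Nat.le_of_dvd (by omega) h1
      have := Nat.pow_lt_pow_right (show 1 < q by omega) (show j < m by omega)
      omega
  -- self-duality
  have hroot : aeval ζ⁻¹ f = 0 := by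
    have h1 : ζ ^ (q ^ m) = ζ⁻¹ := eq_inv_of_mul_eq_one_left (by rw [← pow_succ, ← hζo, pow_orderOf_eq_one])
    rw [← h1, ← hF, aeval_pow_card_pow, hfdef, minpoly.aeval, zero_pow (pow_ne_zero _ Fintype.card_ne_zero)]
  have hdual : Semisimple.dual (RingHom.id F) f = f := by
    refine (Polynomial.eq_of_monic_of_dvd_of_natDegree_le hfm (Semisimple.dual_monic (RingHom.id F) hf0) ?_
      (Semisimple.dual_natDegree (RingHom.id F) hf0).le)
    refine minpoly.dvd F ζ ?_
    let _ : Invertible ζ⁻¹ := invertibleOfNonzero (inv_ne_zero (Units.ne_zero u))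
    rw [Semisimple.dual, map_mul, Polynomial.map_id]
    have h2 := (eval₂_reverse_eq_zero_iff (algebraMap F K) ζ⁻¹ f).2 hroot
    rw [show ⅟(ζ⁻¹) = ζ by rw [invOf_eq_inv, inv_inv]] at h2
    exact mul_eq_zero_of_right _ h2
  have hc1 : f.coeff 0 = 1 := by
    have h1 : f.eval 1 ≠ 0 := fun h => by
      have h' := degree_eq_one_of_irreducible_of_root hfi h
      rw [Polynomial.degree_eq_natDegree hfm.ne_zero, hdeg] at h'
      have : 2 * m = 1 := by exact_mod_cast h'
      omega
    have h2 := congrArg (Polynomial.eval 1) hdual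
    rw [Semisimple.dual, Polynomial.map_id, eval_mul, eval_C, RingHom.id_apply] at h2
    let _ : Invertible (1 : F) := invertibleOne
    have h3 : f.reverse.eval 1 = f.eval 1 := by
      have := eval₂_reverse_mul_pow (RingHom.id F) (1 : F) f
      simpa using this
    rw [h3] at h2
    have h4 : (f.coeff 0)⁻¹ = 1 := by
      have := mul_right_cancel₀ h1 (h2.trans (one_mul _).symm)
      exact this
    rwa [inv_eq_one] at h4
  obtain ⟨A, hA, hAc, o, ho, hAo⟩ := Semisimple.exists_sp_model (p := p) m f hfm (by rw [hdeg]; ring) hc1 hdual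
  refine ⟨⟨A, hA⟩, ?_⟩
  rw [← orderOf_injective (Matrix.symplecticGroup (Fin m) F).subtype Subtype.val_injective]
  show orderOf A = _
  haveI : Nonempty (Fin m) := ⟨⟨0, hm⟩⟩
  have hmin : minpoly F A = f := by
    have hd : minpoly F A ∣ f := hAc ▸ Matrix.minpoly_dvd_charpoly A
    have hu' : ¬ IsUnit (minpoly F A) := minpoly.not_isUnit F A
    exact (Polynomial.eq_of_monic_of_associated (minpoly.monic (IsIntegral.of_finite F A)) hfm
      ((hfi.dvd_iff.mp hd).resolve_left hu').symm)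
  refine orderOf_eq_iff (by positivity) |>.2 ⟨?_, fun j hj hjp hA1 => ?_⟩
  · have h1 : f ∣ X ^ (q ^ m + 1) - 1 := minpoly.dvd F ζ (by simp [← hζo, pow_orderOf_eq_one])
    obtain ⟨c, hc⟩ := h1
    have h2 := congrArg (aeval A) hc
    rw [map_mul, ← hmin, minpoly.aeval, zero_mul] at h2
    simpa [sub_eq_zero] using h2
  · have h1 : f ∣ X ^ j - 1 := hmin ▸ minpoly.dvd F A (by simp [hA1])
    obtain ⟨c, hc⟩ := h1
    have h2 := congrArg (aeval ζ) hc
    rw [map_mul, hfdef, minpoly.aeval, zero_mul] at h2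
    have h3 : ζ ^ j = 1 := by simpa [sub_eq_zero] using h2
    have := Nat.le_of_dvd hjp (hζo ▸ orderOf_dvd_of_pow_eq_one h3)
    omega

/-- Elements of order dividing `q^m ± 1`. -/
theorem exists_orderOf_of_dvd (hF : Fintype.card F = q) {m N : ℕ} (hm : 1 ≤ m)
    (hN : N ∣ q ^ m - 1 ∨ N ∣ q ^ m + 1) :
    ∃ g : ↥(Matrix.symplecticGroup (Fin m) F), orderOf g = N := by
  rcases hN with h | h
  · obtain ⟨g, hg⟩ := ElementOrders.exists_orderOf_eq_pow_card_sub_one (F := F) hm (le_refl m)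
    obtain ⟨L, hL⟩ := S2381.exists_levi_hom (F := F) m
    exact ElementOrders.exists_orderOf_eq_of_dvd (x := L g) (by rw [orderOf_injective L hL, hg, hF]; exact h)
  · obtain ⟨g, hg⟩ := exists_orderOf_pow_add_one hF hm
    exact ElementOrders.exists_orderOf_eq_of_dvd (x := g) (by rw [hg]; exact h)

end Cfsg.Agent.Lib.SympPrimeGraph
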