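import Mathlib
import Cfsg.Agent.S2385
import Cfsg.Agent.Lib.PrimeGraphLinear.Basic
import Cfsg.Agent.S2381

/-!
Eigenvalues of symplectic matrices in an algebraic closure: orbits under `x ↦ x^q` and inversion.
-/

set_option autoImplicit false

namespace Cfsg.Agent.Lib.SympPrimeGraph

open Polynomial
open scoped Matrix

variable {F : Type*} [Field F]

section General

variable {ι : Type*} [Fintype ι] [DecidableEq ι]

/-- The eigenvalues in an algebraic closure. -/
noncomputable def eigs (A : Matrix ι ι F) : Finset (AlgebraicClosure F) :=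
  letI : DecidableEq (AlgebraicClosure F) := Classical.decEq _
  (A.charpoly.map (algebraMap F (AlgebraicClosure F))).roots.toFinset

theorem mem_eigs {A : Matrix ι ι F} {ξ : AlgebraicClosure F} :
    ξ ∈ eigs A ↔ aeval ξ A.charpoly = 0 := by
  classical
  rw [eigs, Multiset.mem_toFinset, mem_roots ((A.charpoly_monic.map _).ne_zero), IsRoot, eval_map]
  rfl

theorem card_eigs_le (A : Matrix ι ι F) : (eigs A).card ≤ Fintype.card ι := by
  classical
  refine ((Multiset.toFinset_card_le _).trans (card_roots' _)).trans ?_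
  rw [natDegree_map, A.charpoly_natDegree_eq_dim]

theorem exists_eigenvector {A : Matrix ι ι F} {ξ : AlgebraicClosure F} (h : ξ ∈ eigs A) :
    ∃ v : ι → AlgebraicClosure F, v ≠ 0 ∧ A.map (algebraMap F (AlgebraicClosure F)) *ᵥ v = ξ • v := by
  classical
  rw [mem_eigs, aeval_def, ← eval_map, ← Matrix.charpoly_map, Matrix.eval_charpoly] at h
  obtain ⟨v, hv, hv0⟩ := Matrix.exists_mulVec_eq_zero_iff.2 h
  refine ⟨v, hv, ?_⟩
  rw [Matrix.sub_mulVec, sub_eq_zero] at hv0
  rw [← hv0]
  ext i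
  simp [Matrix.scalar_apply, Matrix.mulVec_diagonal]

theorem eig_pow_eq_one {A : Matrix ι ι F} {N : ℕ} (hA : A ^ N = 1) {ξ : AlgebraicClosure F} (h : ξ ∈ eigs A) :
    ξ ^ N = 1 := by
  classical
  obtain ⟨v, hv, hAv⟩ := exists_eigenvector h
  have hpow : ∀ j : ℕ, (A.map (algebraMap F (AlgebraicClosure F))) ^ j *ᵥ v = ξ ^ j • v := fun j => by
    induction j with
    | zero => simp
    | succ j ih => rw [pow_succ, ← Matrix.mulVec_mulVec, hAv, Matrix.mulVec_smul, ih, smul_smul, pow_succ']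
  have h1 := hpow N
  rw [← Matrix.map_pow, hA, Matrix.map_one _ (map_zero _) (map_one _), Matrix.one_mulVec] at h1
  obtain ⟨i, hi⟩ := Function.ne_iff.1 hv
  have h2 := congrFun h1 i
  rw [Pi.smul_apply, smul_eq_mul] at h2
  exact mul_right_cancel₀ hi (h2.symm.trans (one_mul _).symm)

theorem exists_eig {A : Matrix ι ι F} {r m : ℕ} (hr : (r : F) ≠ 0) (h1 : A ^ (r * m) = 1) (h2 : A ^ m ≠ 1) :
    ∃ ξ ∈ eigs A, ξ ^ (r * m) = 1 ∧ ξ ^ m ≠ 1 := by
  obtain ⟨f, hf, hfA, hfX, hfn⟩ := PrimeGraphLinear.exists_factor A hr h1 h2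
  obtain ⟨ξ, hξ⟩ := IsAlgClosed.exists_aeval_eq_zero (AlgebraicClosure F) f (hf.natDegree_pos.ne' <| natDegree_eq_of_degree_eq_some ·)
  refine ⟨ξ, mem_eigs.2 ?_, ?_, fun hξm => hfn ?_⟩
  · obtain ⟨c, hc⟩ := hfA.trans (Matrix.minpoly_dvd_charpoly A)
    rw [hc, map_mul, hξ, zero_mul]
  · obtain ⟨c, hc⟩ := hfX
    have := congrArg (aeval ξ) hc
    rw [map_mul, hξ, zero_mul] at this
    simpa [sub_eq_zero] using this
  · refine (Associated.dvd ?_).trans (minpoly.dvd F ξ (by simp [hξm] : aeval ξ (X ^ m - 1 : F[X]) = 0))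
    exact ((minpoly.irreducible (Algebra.IsIntegral.isIntegral ξ)).associated_of_dvd hf (minpoly.dvd F ξ hξ)).symm

/-- With `dim` distinct eigenvalues, no unipotent element but `1` commutes. -/
theorem eq_one_of_commute {p : ℕ} [Fact p.Prime] [CharP F p] {A Y : Matrix ι ι F}
    (hA : (eigs A).card = Fintype.card ι) (hc : Commute A Y) (hY : Y ^ p = 1) : Y = 1 := by
  classical
  let φ := (algebraMap F (AlgebraicClosure F)).mapMatrix (m := ι)
  haveI : CharP (AlgebraicClosure F) p := charP_of_injective_algebraMap (algebraMap F _).injective p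
  set N := φ Y - 1 with hN
  have hNA : Commute (φ A) N := (hc.map φ).sub_right (Commute.one_right _)
  have hNp : N ^ p = 0 := by
    rcases isEmpty_or_nonempty ι with h | h
    · exact Subsingleton.elim _ _
    · rw [hN, sub_pow_char_of_commute p (Commute.one_right _), one_pow, ← map_pow, hY, map_one, sub_self]
  have hex : ∀ ξ : eigs A, ∃ w : ι → AlgebraicClosure F, w ≠ 0 ∧ φ A *ᵥ w = (ξ : AlgebraicClosure F) • w ∧ N *ᵥ w = 0 := by
    rintro ⟨ξ, hξ⟩
    obtain ⟨v, hv, hAv⟩ := exists_eigenvector hξ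
    have hj : ∃ j, N ^ j *ᵥ v = 0 := ⟨p, by rw [hNp, Matrix.zero_mulVec]⟩
    obtain ⟨i, hi⟩ : ∃ i, Nat.find hj = i + 1 := Nat.exists_eq_add_one.2
      (Nat.pos_of_ne_zero fun h => hv (by simpa [h] using Nat.find_spec hj))
    refine ⟨N ^ i *ᵥ v, Nat.find_min hj (by omega), ?_, ?_⟩
    · rw [Matrix.mulVec_mulVec, (hNA.pow_right i).eq, ← Matrix.mulVec_mulVec, ← Matrix.mulVec_smul]
      exact congrArg _ hAv
    · rw [Matrix.mulVec_mulVec, ← pow_succ', ← hi]
      exact Nat.find_spec hj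
  choose w hw0 hwA hwN using hex
  have hli : LinearIndependent (AlgebraicClosure F) w :=
    Module.End.eigenvectors_linearIndependent' (Matrix.toLin' (φ A)) (fun ξ : eigs A => (ξ : AlgebraicClosure F))
      Subtype.val_injective w fun ξ => ⟨Module.End.mem_eigenspace_iff.2 (by rw [Matrix.toLin'_apply]; exact hwA ξ), hw0 ξ⟩
  have hspan : Submodule.span (AlgebraicClosure F) (Set.range w) = ⊤ :=
    hli.span_eq_top_of_card_eq_finrank' (by
      rw [Module.finrank_fintype_fun_eq_card, Fintype.card_coe, hA])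
  have h0 : Matrix.toLin' N = 0 := LinearMap.ext_on_range hspan fun ξ => by
    rw [Matrix.toLin'_apply, hwN, LinearMap.zero_apply]
  have h1 : φ Y = 1 := sub_eq_zero.1 (hN.symm.trans (Matrix.toLin'.injective (h0.trans (map_zero _).symm)))
  ext i j
  have h2 := congrFun (congrFun h1 i) j
  apply (algebraMap F (AlgebraicClosure F)).injective
  simp only [φ, RingHom.mapMatrix_apply, Matrix.map_apply] at h2
  rw [h2]
  simp [Matrix.one_apply, apply_ite (algebraMap F (AlgebraicClosure F))]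

end General

variable [Fintype F] {q n : ℕ}

theorem eigs_pow_mem {ι : Type*} [Fintype ι] [DecidableEq ι] (hF : Fintype.card F = q) {A : Matrix ι ι F}
    {ξ : AlgebraicClosure F} (h : ξ ∈ eigs A) : ξ ^ q ∈ eigs A := by
  rw [mem_eigs] at h ⊢
  rw [← hF, ← expand_aeval, FiniteField.expand_card, map_pow, h, zero_pow Fintype.card_ne_zero]

omit [Fintype F] in
theorem eigs_inv_mem {A : Matrix (Fin n ⊕ Fin n) (Fin n ⊕ Fin n) F}
    (hA : A ∈ Matrix.symplecticGroup (Fin n) F) {ξ : AlgebraicClosure F} (h : ξ ∈ eigs A) :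
    ξ⁻¹ ∈ eigs A := by
  rw [mem_eigs] at h ⊢
  obtain ⟨h0, hd⟩ := S2385.dual_charpoly_sp A hA
  have hξ : ξ ≠ 0 := by
    intro h1
    rw [h1, aeval_def, eval₂_at_zero, h0, map_one] at h
    exact one_ne_zero h
  rw [Semisimple.dual, Polynomial.map_id, h0, map_one, inv_one, map_one, one_mul] at hd
  let _ : Invertible ξ := invertibleOfNonzero hξ
  rw [← hd, ← invOf_eq_inv, aeval_def, eval₂_reverse_eq_zero_iff]
  exact h

/-- The group generated by `q` and `-1` modulo `N`. -/
def signedQ (q N : ℕ) (h : q.Coprime N) : Subgroup (ZMod N)ˣ :=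
  Subgroup.closure {ZMod.unitOfCoprime q h, -1}

theorem card_signedQ_le {R : Finset (AlgebraicClosure F)} (hq : ∀ x ∈ R, x ^ q ∈ R)
    (hinv : ∀ x ∈ R, x⁻¹ ∈ R) {N : ℕ} [NeZero N] (hqN : q.Coprime N) {ξ : AlgebraicClosure F}
    (hξ : orderOf ξ = N) (hR : ξ ∈ R) :
    Nat.card ↥(signedQ q N hqN) ≤ (R.filter fun x => orderOf x = N).card := by
  have hco : ∀ u : (ZMod N)ˣ, ∀ x : AlgebraicClosure F, orderOf x = N → orderOf (x ^ (u : ZMod N).val) = N :=
    fun u x hx => by rw [Nat.Coprime.orderOf_pow (hx ▸ (ZMod.val_coe_unit_coprime u).symm), hx]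
  have key : ∀ u ∈ Submonoid.closure ({ZMod.unitOfCoprime q hqN, -1} : Set (ZMod N)ˣ),
      ∀ x ∈ R, orderOf x = N → x ^ (u : ZMod N).val ∈ R := by
    intro u hu
    induction hu using Submonoid.closure_induction with
    | mem v hv =>
      intro x hx hxo
      rcases hv with rfl | rfl
      · have e : x ^ ((ZMod.unitOfCoprime q hqN : (ZMod N)ˣ) : ZMod N).val = x ^ q := by
          rw [← pow_mod_orderOf x q, hxo, ZMod.coe_unitOfCoprime, ZMod.val_natCast]
        rw [e]
        exact hq x hx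
      · have e : x ^ ((-1 : (ZMod N)ˣ) : ZMod N).val = x⁻¹ := by
          refine eq_inv_of_mul_eq_one_left ?_
          rw [← pow_succ, ← orderOf_dvd_iff_pow_eq_one, hxo, ← ZMod.natCast_eq_zero_iff]
          push_cast
          rw [ZMod.natCast_zmod_val]
          simp
        rw [e]
        exact hinv x hx
    | one =>
      intro x hx hxo
      rcases eq_or_ne N 1 with hN | hN
      · subst hN
        rw [orderOf_eq_one_iff.1 hxo, one_pow]
        rwa [orderOf_eq_one_iff.1 hxo] at hx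
      · rwa [Units.val_one, ZMod.val_one_eq_one_mod, Nat.mod_eq_of_lt (by have := NeZero.ne N; omega), pow_one]
    | mul u v hu hv ihu ihv =>
      intro x hx hxo
      have e : x ^ ((u * v : (ZMod N)ˣ) : ZMod N).val = (x ^ (u : ZMod N).val) ^ (v : ZMod N).val := by
        rw [← pow_mul, ← pow_mod_orderOf x ((u : ZMod N).val * _), hxo, Units.val_mul, ZMod.val_mul]
      rw [e]
      exact ihv _ (ihu x hx hxo) (hco u x hxo)
  let g : ↥(signedQ q N hqN) → ↥(R.filter fun x => orderOf x = N) := fun u =>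
    ⟨ξ ^ ((u : (ZMod N)ˣ) : ZMod N).val, Finset.mem_filter.2 ⟨key u (by
      rw [← Subgroup.closure_toSubmonoid_of_isOfFinOrder fun x _ => isOfFinOrder_of_finite x]
      exact u.2) ξ hR hξ, hco u ξ hξ⟩⟩
  refine (Nat.card_le_card_of_injective g fun u v huv => ?_).trans_eq (Nat.card_eq_finsetCard _)
  have hfin : IsOfFinOrder ξ := orderOf_pos_iff.1 (hξ ▸ Nat.pos_of_ne_zero (NeZero.ne N))
  have h1 := hfin.pow_inj_mod.1 (congrArg Subtype.val huv)
  rw [hξ, Nat.mod_eq_of_lt (ZMod.val_lt _), Nat.mod_eq_of_lt (ZMod.val_lt _)] at h1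
  exact Subtype.ext (Units.ext (ZMod.val_injective N h1))

theorem orderOf_unitOfCoprime {N : ℕ} (h : q.Coprime N) :
    orderOf (ZMod.unitOfCoprime q h) = orderOf (q : ZMod N) := by
  rw [← orderOf_units, ZMod.coe_unitOfCoprime]

theorem two_half_le_card {s : ℕ} [Fact s.Prime] (hs : s ≠ 2) (h : q.Coprime s) :
    2 * S2381.half (orderOf (q : ZMod s)) ≤ Nat.card ↥(signedQ q s h) := by
  haveI : Fact (2 < s) := ⟨by have := (Fact.out : s.Prime).two_le; omega⟩
  set u := ZMod.unitOfCoprime q h with hu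
  have hl : orderOf u = orderOf (q : ZMod s) := orderOf_unitOfCoprime h
  have hmem : u ∈ signedQ q s h := Subgroup.subset_closure (Set.mem_insert _ _)
  rw [S2381.half, ← hl]
  split_ifs with h2
  · rw [Nat.mul_div_cancel' h2]
    exact Nat.le_of_dvd Nat.card_pos (Subgroup.orderOf_dvd_natCard _ hmem)
  · have hm1 : orderOf (-1 : (ZMod s)ˣ) = 2 :=
      orderOf_eq_prime (by simp) fun he => ZMod.neg_one_ne_one (congrArg Units.val he)
    have ho : orderOf (-1 * u) = 2 * orderOf u := by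
      rw [(Commute.all _ _).orderOf_mul_eq_mul_orderOf_of_coprime
        (by rw [hm1]; exact Nat.prime_two.coprime_iff_not_dvd.2 h2), hm1]
    rw [← ho]
    exact Nat.le_of_dvd Nat.card_pos (Subgroup.orderOf_dvd_natCard _
      (mul_mem (Subgroup.subset_closure (Set.mem_insert_of_mem _ rfl)) hmem))

theorem two_mul_two_half_le_card {r s : ℕ} [Fact r.Prime] [Fact s.Prime] (hr : r ≠ 2) (hs : s ≠ 2)
    (h : q.Coprime (r * s))
    (hno : ¬ ∃ t : ℕ, Odd t ∧ orderOf (q : ZMod s) = orderOf (q : ZMod r) * t) :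
    2 * (2 * S2381.half (orderOf (q : ZMod s))) ≤ Nat.card ↥(signedQ q (r * s) h) := by
  haveI : NeZero (r * s) := ⟨Nat.mul_ne_zero (NeZero.ne r) (NeZero.ne s)⟩
  have hcs : q.Coprime s := Nat.Coprime.coprime_dvd_right (dvd_mul_left s r) h
  have hcr : q.Coprime r := Nat.Coprime.coprime_dvd_right (dvd_mul_right r s) h
  let π := ZMod.unitsMap (dvd_mul_left s r)
  let ρ := ZMod.unitsMap (dvd_mul_right r s)
  set u := ZMod.unitOfCoprime q h with hu
  have hπu : π u = ZMod.unitOfCoprime q hcs := Units.ext (map_natCast (ZMod.castHom (dvd_mul_left s r) (ZMod s)) q)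
  have hρu : ρ u = ZMod.unitOfCoprime q hcr := Units.ext (map_natCast (ZMod.castHom (dvd_mul_right r s) (ZMod r)) q)
  have hπ1 : π (-1) = -1 := Units.ext
    (by show ZMod.castHom (dvd_mul_left s r) (ZMod s) ((-1 : (ZMod (r * s))ˣ) : ZMod (r * s)) = _; simp)
  have hρ1 : ρ (-1) = -1 := Units.ext
    (by show ZMod.castHom (dvd_mul_right r s) (ZMod r) ((-1 : (ZMod (r * s))ˣ) : ZMod (r * s)) = _; simp)
  set H := signedQ q (r * s) h
  have hu_mem : u ∈ H := Subgroup.subset_closure (Set.mem_insert _ _)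
  have hm_mem : (-1 : (ZMod (r * s))ˣ) ∈ H := Subgroup.subset_closure (Set.mem_insert_of_mem _ rfl)
  have himg : H.map π = signedQ q s hcs := by
    simp only [H, signedQ, MonoidHom.map_closure, Set.image_insert_eq, Set.image_singleton, hπu, hπ1]
    rw [← hu, hπu]
  set l := orderOf (q : ZMod s) with hl
  set k := orderOf (q : ZMod r) with hk
  have hlu : (ZMod.unitOfCoprime q hcs) ^ l = 1 := by rw [hl, ← orderOf_unitOfCoprime hcs, pow_orderOf_eq_one]
  have hkdvd : ∀ j : ℕ, ρ (u ^ j) = 1 → k ∣ j := fun j hj => by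
    rw [map_pow, hρu] at hj
    rw [hk, ← orderOf_unitOfCoprime hcr]
    exact orderOf_dvd_of_pow_eq_one hj
  have hker : ∃ x ∈ H, π x = 1 ∧ x ≠ 1 := by
    by_contra hcon
    push Not at hcon
    have h1 : u ^ l = 1 := hcon _ (pow_mem hu_mem l) (by rw [map_pow, hπu, hlu])
    have hkl : k ∣ l := hkdvd l (by rw [h1, map_one])
    obtain ⟨t, ht⟩ := hkl
    refine hno ⟨t, ?_, ht⟩
    rcases Nat.even_or_odd t with ht2 | ht2
    swap
    · exact ht2
    obtain ⟨c, rfl⟩ := ht2
    exfalso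
    have hl0 : 0 < l := orderOf_pos_iff.2 (isOfFinOrder_iff_pow_eq_one.2
      ⟨s - 1, Nat.sub_pos_of_lt (Fact.out : s.Prime).one_lt, ZMod.pow_card_sub_one_eq_one
        (fun h0 => ((Fact.out : s.Prime).coprime_iff_not_dvd.1 hcs.symm) ((ZMod.natCast_eq_zero_iff _ _).1 h0))⟩)
    set e := k * c
    have hle : l = 2 * e := by rw [ht]; ring
    have hsq : (ZMod.unitOfCoprime q hcs : ZMod s) ^ e = -1 := by
      rcases mul_self_eq_one_iff.1 (show ((ZMod.unitOfCoprime q hcs : ZMod s) ^ e) * _ ^ e = 1 by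
        rw [← pow_add, ← two_mul, ← hle, ← Units.val_pow_eq_pow_val, hlu, Units.val_one]) with h' | h'
      · exfalso
        rw [ZMod.coe_unitOfCoprime] at h'
        have := Nat.le_of_dvd (by omega) (orderOf_dvd_of_pow_eq_one h')
        omega
      · exact h'
    have h2 : -1 * u ^ e = 1 := hcon _ (mul_mem hm_mem (pow_mem hu_mem e))
      (by rw [map_mul, map_pow, hπu, hπ1]; exact Units.ext (by
        rw [Units.val_mul, Units.val_neg, Units.val_one, Units.val_pow_eq_pow_val, hsq]; simp))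
    have h3 := congrArg ρ h2
    rw [map_mul, map_pow, hρ1, map_one] at h3
    have h4 : ρ u ^ e = 1 := by
      obtain ⟨c', hc'⟩ : k ∣ e := dvd_mul_right k c
      rw [hρu, hc', pow_mul, hk, ← orderOf_unitOfCoprime hcr, pow_orderOf_eq_one, one_pow]
    rw [h4, mul_one] at h3
    haveI : Fact (2 < r) := ⟨by have := (Fact.out : r.Prime).two_le; omega⟩
    exact ZMod.neg_one_ne_one (congrArg Units.val h3)
  obtain ⟨x, hx, hπx, hx1⟩ := hker
  let f := π.comp H.subtype
  have hrange : f.range = signedQ q s hcs := by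
    rw [MonoidHom.range_comp, Subgroup.range_subtype, himg]
  have hker2 : 2 ≤ Nat.card f.ker := by
    rw [Nat.succ_le_iff, Finite.one_lt_card_iff_nontrivial]
    exact (Subgroup.nontrivial_iff_exists_ne_one _).2
      ⟨⟨x, hx⟩, hπx, fun h' => hx1 (congrArg Subtype.val h')⟩
  calc 2 * (2 * S2381.half l) ≤ Nat.card f.ker * Nat.card ↥(signedQ q s hcs) :=
        Nat.mul_le_mul hker2 (two_half_le_card hs hcs)
    _ = Nat.card H := by
        rw [← hrange, ← Nat.card_congr (QuotientGroup.quotientKerEquivRange f).toEquiv,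
          mul_comm, ← Subgroup.card_eq_card_quotient_mul_card_subgroup]

end Cfsg.Agent.Lib.SympPrimeGraph
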