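import Mathlib
import Cfsg.Prelude.Def_Classical
import Cfsg.Agent.Lib.Classical.Symplectic
import Cfsg.Agent.Lib.SympPrimeGraph.Elements

/-!
Element orders in `PSp_{2n}(q)` prime to the centre; where `q` modulo `r` lands.
-/

set_option autoImplicit false

namespace Cfsg.Agent.Lib.SympPrimeGraph

/-- Element orders prime to the exponent of a normal subgroup. -/
theorem exists_orderOf_quotient_iff {G : Type*} [Group G] (Z : Subgroup G) [Z.Normal] {c N : ℕ}
    (hZ : ∀ z ∈ Z, z ^ c = 1) (hN : N.Coprime c) :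
    (∃ x : G ⧸ Z, orderOf x = N) ↔ ∃ g : G, orderOf g = N := by
  constructor
  · rintro ⟨x, hx⟩
    obtain ⟨g, rfl⟩ := QuotientGroup.mk_surjective x
    have hgN : (g ^ c) ^ N = 1 := by
      rw [← pow_mul, mul_comm, pow_mul]
      exact hZ _ ((QuotientGroup.eq_one_iff _).1 (by rw [QuotientGroup.mk_pow, ← hx, pow_orderOf_eq_one]))
    refine ⟨g ^ c, Nat.dvd_antisymm (orderOf_dvd_of_pow_eq_one hgN) ?_⟩
    have ho : orderOf ((g ^ c : G) : G ⧸ Z) = N := by
      rw [QuotientGroup.mk_pow, Nat.Coprime.orderOf_pow (by rwa [hx]), hx]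
    conv_lhs => rw [← ho]
    exact orderOf_map_dvd (QuotientGroup.mk' Z) _
  · rintro ⟨g, hg⟩
    refine ⟨g, Nat.dvd_antisymm (hg ▸ orderOf_map_dvd (QuotientGroup.mk' Z) g) ?_⟩
    have h1 : (g ^ orderOf (g : G ⧸ Z)) ^ c = 1 :=
      hZ _ ((QuotientGroup.eq_one_iff _).1 (by rw [QuotientGroup.mk_pow, pow_orderOf_eq_one]))
    rw [← pow_mul] at h1
    exact hN.dvd_of_dvd_mul_right (hg ▸ orderOf_dvd_of_pow_eq_one h1)

variable {F : Type*} [Field F]

theorem exists_orderOf_PSp_iff {n N : ℕ} (hN : ∀ p : ℕ, CharP F p → p ≠ 2 → Odd N) :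
    (N ∈ Set.range (orderOf : Cfsg.PSp n F → ℕ)) ↔
      ∃ g : ↥(Matrix.symplecticGroup (Fin n) F), orderOf g = N := by
  obtain ⟨p, hp⟩ := CharP.exists F
  rw [Set.mem_range]
  refine exists_orderOf_quotient_iff _ (c := if p = 2 then 1 else 2) (fun z hz => ?_) ?_
  · apply Subtype.ext
    rw [SubmonoidClass.coe_pow]
    split_ifs with h2
    · subst h2
      rw [pow_one]
      rcases (Classical.center_symplecticGroup n z).1 hz with h | h
      · exact h
      · rw [h]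
        ext i j
        exact CharTwo.neg_eq _
    · rcases (Classical.center_symplecticGroup n z).1 hz with h | h <;> simp [h]
  · split_ifs with h2
    · exact Nat.coprime_one_right _
    · exact Nat.coprime_two_right.2 (hN p hp h2)

theorem eta_eq {k e : ℕ} (h : (Odd k ∧ e = k) ∨ (Even k ∧ 2 * e = k)) : e = S2381.half k := by
  rw [S2381.half]
  rcases h with ⟨hk, rfl⟩ | ⟨hk, he⟩
  · rw [if_neg (fun h2 => Nat.not_even_iff_odd.2 hk (even_iff_two_dvd.2 h2))]
  · rw [if_pos hk.two_dvd]; omega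

variable [Fintype F] {q r : ℕ} [Fact r.Prime]

theorem not_dvd_card {p : ℕ} [Fact p.Prime] [CharP F p] (hF : Fintype.card F = q) (hrp : r ≠ p) :
    ¬ r ∣ q := fun h => by
  obtain ⟨a, -, ha⟩ := FiniteField.card F p
  rw [← hF, ha] at h
  exact hrp ((Nat.prime_dvd_prime_iff_eq Fact.out Fact.out).1 ((Fact.out : r.Prime).dvd_of_dvd_pow h))

/-- `r` divides `q^η(k) ± 1`. -/
theorem dvd_pow_half (hr2 : r ≠ 2) (hq : 1 ≤ q) (hrq : ¬ r ∣ q) {t : ℕ} (ht : Odd t) :
    (2 ∣ orderOf (q : ZMod r) → r ∣ q ^ (S2381.half (orderOf (q : ZMod r)) * t) + 1) ∧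
      (¬ 2 ∣ orderOf (q : ZMod r) → r ∣ q ^ (S2381.half (orderOf (q : ZMod r)) * t) - 1) := by
  obtain ⟨hd, -⟩ := CrossChar.orderOf_pos_dvd hrq
  refine ⟨fun h => ?_, fun h => ?_⟩
  · rw [S2381.half, if_pos h, ← ZMod.natCast_eq_zero_iff]
    push_cast
    obtain ⟨e, he⟩ := h
    rw [he, Nat.mul_div_cancel_left e two_pos, pow_mul]
    have h1 : ((q : ZMod r) ^ e) * (q : ZMod r) ^ e = 1 := by
      rw [← pow_add, ← two_mul, ← he, pow_orderOf_eq_one]
    rcases mul_self_eq_one_iff.1 h1 with h2 | h2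
    · have := Nat.le_of_dvd (by omega) (orderOf_dvd_of_pow_eq_one h2)
      omega
    · rw [h2, ht.neg_one_pow, neg_add_cancel]
  · rw [S2381.half, if_neg h, ← Nat.modEq_iff_dvd' (Nat.one_le_pow _ _ hq), ← ZMod.natCast_eq_natCast_iff]
    push_cast
    rw [pow_mul, pow_orderOf_eq_one, one_pow]

theorem exists_orderOf_prime (hF : Fintype.card F = q) (hr2 : r ≠ 2) (hrq : ¬ r ∣ q) :
    ∃ g : ↥(Matrix.symplecticGroup (Fin (S2381.half (orderOf (q : ZMod r)))) F), orderOf g = r := by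
  obtain ⟨hd, -⟩ := CrossChar.orderOf_pos_dvd hrq
  have h := dvd_pow_half (t := 1) hr2 (hF ▸ Fintype.card_pos) hrq odd_one
  rw [mul_one] at h
  exact exists_orderOf_of_dvd hF (S2381.half_pos hd)
    (if h2 : 2 ∣ orderOf (q : ZMod r) then Or.inr (h.1 h2) else Or.inl (h.2 h2))

end Cfsg.Agent.Lib.SympPrimeGraph
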